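import Groth.Agent.Lib.DerCat.Hocolim
import Groth.Agent.Lib.DerCat.FiniteFac
import Groth.Agent.Lib.DerCat.BrownGen
import Mathlib.CategoryTheory.Triangulated.Generators

/-!
# Compact objects of a compactly generated triangulated category form an essentially small class

Every compact object lies in the thick subcategory spanned by a generating family (Neeman), and
that thick subcategory has, up to isomorphism, a small set of objects.
-/

universe v u

open CategoryTheory CategoryTheory.Limits CategoryTheory.Pretriangulated Opposite ZeroObject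

namespace Groth.Agent.Lib.FinDimBrown.Small

variable {D : Type u} [Category.{v} D] [Preadditive D] [HasZeroObject D] [HasShift D ℤ]
  [∀ n : ℤ, (shiftFunctor D n).Additive] [Pretriangulated D] [HasCoproducts.{v} D]

omit [HasZeroObject D] [HasShift D ℤ] [∀ n : ℤ, (shiftFunctor D n).Additive] [Pretriangulated D] in
lemma hasColimitsOfShape_nat : HasColimitsOfShape (Discrete ℕ) D :=
  hasColimitsOfShape_of_equivalence (Discrete.equivalence Equiv.ulift.{v})

/-- A small type of objects. -/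
structure Bag (D : Type u) : Type (max u (v + 1)) where
  /-- Indices. -/
  T : Type v
  /-- The objects. -/
  obj : T → D

/-- The objects isomorphic to a member of a bag. -/
def Bag.P (B : Bag.{v} D) : ObjectProperty D := fun Z => ∃ t, Nonempty (Z ≅ B.obj t)

omit [HasCoproducts.{v} D] in
/-- One closure step: shifts, cones, chosen retracts. -/
noncomputable def step (B : Bag.{v} D) : Bag.{v} D where
  T := (B.T × ℤ ⊕ Σ (t : B.T) (t' : B.T), (B.obj t ⟶ B.obj t')) ⊕
    Σ t : B.T, {e : B.obj t ⟶ B.obj t //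
      ∃ (X : D) (i : X ⟶ B.obj t) (r : B.obj t ⟶ X), i ≫ r = 𝟙 X ∧ r ≫ i = e}
  obj := fun
    | .inl (.inl p) => (B.obj p.1)⟦p.2⟧
    | .inl (.inr p) => (distinguished_cocone_triangle p.2.2).choose
    | .inr p => p.2.2.choose

/-- The initial bag: the zero object and the family. -/
noncomputable def init {ι : Type v} (E : ι → D) : Bag.{v} D where
  T := Option ι
  obj := fun o => o.elim 0 E

/-- The iterated closures. -/
noncomputable def iter {ι : Type v} (E : ι → D) : ℕ → Bag.{v} D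
  | 0 => init E
  | n + 1 => step (iter E n)

/-- The union of the closures. -/
noncomputable def total {ι : Type v} (E : ι → D) : Bag.{v} D where
  T := Σ n : ℕ, (iter E n).T
  obj := fun p => (iter E p.1).obj p.2

section

omit [HasCoproducts.{v} D]

variable {ι : Type v} (E : ι → D)

omit [Preadditive D] [HasZeroObject D] [HasShift D ℤ] [∀ n : ℤ, (shiftFunctor D n).Additive]
  [Pretriangulated D] in
/-- Two splittings of the same idempotent are isomorphic. -/
def isoOfSplit {X A T : D} (j : X ⟶ T) (p : T ⟶ X) (hjp : j ≫ p = 𝟙 X) (i : A ⟶ T) (s : T ⟶ A)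
    (his : i ≫ s = 𝟙 A) (h : s ≫ i = p ≫ j) : X ≅ A where
  hom := j ≫ s
  inv := i ≫ p
  hom_inv_id := by rw [Category.assoc, reassoc_of% h, hjp, Category.comp_id, hjp]
  inv_hom_id := by rw [Category.assoc, ← reassoc_of% h, his, Category.comp_id, his]

lemma le_step (B : Bag.{v} D) : B.P ≤ (step B).P := fun Z ⟨t, ⟨e⟩⟩ =>
  ⟨.inl (.inl (t, 0)), ⟨e ≪≫ ((shiftFunctorZero D ℤ).app _).symm⟩⟩

lemma iter_mono {m n : ℕ} (h : m ≤ n) : (iter E m).P ≤ (iter E n).P := by
  induction h with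
  | refl => exact le_rfl
  | step _ ih => exact ih.trans (le_step _)

lemma total_iff (Z : D) : (total E).P Z ↔ ∃ n, (iter E n).P Z :=
  ⟨fun ⟨⟨n, t⟩, h⟩ => ⟨n, t, h⟩, fun ⟨n, t, h⟩ => ⟨⟨n, t⟩, h⟩⟩

instance : (total E).P.IsTriangulatedClosed₂ :=
  ObjectProperty.IsTriangulatedClosed₂.mk fun T hT h₁ h₃ => by
    obtain ⟨⟨m, h₁'⟩, ⟨n, h₃'⟩⟩ := (total_iff E _).1 h₁, (total_iff E _).1 h₃
    obtain ⟨t₁, ⟨e₁⟩⟩ := iter_mono E (le_max_left m n) _ h₁'
    obtain ⟨t₃, ⟨e₃⟩⟩ := iter_mono E (le_max_right m n) _ h₃'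
    let N := max m n
    let s : (iter E (N + 1)).T := .inl (.inl (t₃, -1))
    let s₁ : (iter E (N + 1)).T := .inl (.inl (t₁, 0))
    let f₁ : (iter E (N + 1)).obj s₁ ≅ T.obj₁ :=
      (shiftFunctorZero D ℤ).app _ ≪≫ e₁.symm
    let f₃ : (iter E (N + 1)).obj s ≅ T.obj₃⟦(-1 : ℤ)⟧ :=
      (shiftFunctor D (-1 : ℤ)).mapIso e₃.symm
    -- the middle term is the cone of `obj₃⟦-1⟧ ⟶ obj₁`
    let φ : (iter E (N + 1)).obj s ⟶ (iter E (N + 1)).obj s₁ :=
      f₃.hom ≫ T.invRotate.mor₁ ≫ f₁.inv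
    have hc := (distinguished_cocone_triangle φ).choose_spec
    obtain ⟨g', h', hT'⟩ := hc
    refine ObjectProperty.le_isoClosure _ _ ((total_iff E _).2 ⟨N + 2, .inl (.inr ⟨s, s₁, φ⟩), ⟨?_⟩⟩)
    exact Triangle.π₃.mapIso (isoTriangleOfIso₁₂ _ _ (inv_rot_of_distTriang _ hT) hT' f₃.symm
      f₁.symm (by
        simp only [Iso.symm_hom]
        exact ((Iso.inv_hom_id_assoc f₃ _)).symm))

instance : (total E).P.IsStableUnderShift ℤ where
  isStableUnderShiftBy a := ⟨fun Z hZ => by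
    obtain ⟨n, t, ⟨e⟩⟩ := (total_iff E _).1 hZ
    exact (total_iff E _).2 ⟨n + 1, .inl (.inl (t, a)), ⟨(shiftFunctor D a).mapIso e⟩⟩⟩

instance : (total E).P.ContainsZero :=
  ⟨⟨(init E).obj none, isZero_zero D, (total_iff E _).2 ⟨0, none, ⟨Iso.refl ((init E).obj none)⟩⟩⟩⟩

instance : (total E).P.IsTriangulated where

instance : (total E).P.IsStableUnderRetracts where
  of_retract {X Y} r hY := by
    obtain ⟨n, t, ⟨e⟩⟩ := (total_iff E _).1 hY
    let q : {f : (iter E n).obj t ⟶ (iter E n).obj t //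
        ∃ (X : D) (i : X ⟶ (iter E n).obj t) (r : (iter E n).obj t ⟶ X),
          i ≫ r = 𝟙 X ∧ r ≫ i = f} :=
      ⟨(e.inv ≫ r.r) ≫ r.i ≫ e.hom, X, r.i ≫ e.hom, e.inv ≫ r.r, by
        rw [Category.assoc, Iso.hom_inv_id_assoc, r.retract], rfl⟩
    refine (total_iff E _).2 ⟨n + 1, .inr ⟨t, q⟩, ?_⟩
    obtain ⟨i, s, his, hsi⟩ := q.2.choose_spec
    have hq : q.1 = (e.inv ≫ r.r) ≫ r.i ≫ e.hom := rfl
    exact ⟨isoOfSplit (r.i ≫ e.hom) (e.inv ≫ r.r)
      (by rw [Category.assoc, Iso.hom_inv_id_assoc, r.retract]) i s his (hsi.trans hq)⟩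

lemma prop_gen (i : ι) : (total E).P (E i) := (total_iff E _).2 ⟨0, some i, ⟨Iso.refl _⟩⟩

end

/-- Neeman: every compact object is in the envelope of a compact generating family. -/
theorem compact_mem_envelope [IsTriangulated D] {ι : Type v} [Nonempty ι] (E : ι → D)
    (hc : ∀ i, CohDer.IsCompactObject (E i)) (hg : CohDer.Generates E)
    (X : D) (hX : CohDer.IsCompactObject X) :
    ObjectProperty.triangEnvelope (fun Y : D => ∃ i, Y = E i) X := by
  haveI := hasColimitsOfShape_nat.{v} (D := D)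
  obtain ⟨S, p, hp⟩ := Groth.Agent.Lib.DerCat.Hocolim.exists_hocolim
    (Groth.Agent.Lib.DerCat.BrownGen.perfGen_of_compact E hc hg) X
  obtain ⟨N, g, hg₁⟩ := Groth.Agent.Lib.DerCat.Hocolim.exists_factor_stage hX S.X S.t p hp (𝟙 X)
  obtain ⟨s, -, E', a, b, hE', hab⟩ := Groth.Agent.Lib.DerCat.FiniteFac.fac_sequence
    (E := E) hc S.t ⟨S.κ₀, fun k => (S.a₀ k).1, fun k => (S.a₀ k).2.down, ⟨S.e₀⟩⟩
    (fun n => ⟨S.κ n, fun k => (S.a n k).1, fun k => (S.a n k).2.down, S.q n, S.c n, S.dist n⟩)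
    N X hX g
  exact ObjectProperty.IsStableUnderRetracts.of_retract
    (⟨a, b ≫ p N, by rw [← Category.assoc, hab, hg₁]⟩ : Retract X E')
    (ObjectProperty.monotone_triangEnvelope (fun Y ⟨i, _, e⟩ => ⟨i, e⟩) _ hE')

/-- The compact objects of a compactly generated category form an essentially small class. -/
theorem exists_small [IsTriangulated D] (hD : CohDer.IsCompactlyGenerated D) :
    ∃ (T : Type v) (obj : T → D), (∀ t, CohDer.IsCompactObject (obj t)) ∧
      ∀ X : D, CohDer.IsCompactObject X → ∃ t, Nonempty (X ≅ obj t) := by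
  obtain ⟨ι₀, E₀, hc₀, hg₀⟩ := hD
  let E : Option ι₀ → D := fun o => o.elim 0 E₀
  have hc : ∀ i, CohDer.IsCompactObject (E i) := fun
    | none => Groth.Agent.Lib.DerCat.Compact.isCompactObject_of_isZero (h := isZero_zero D)
    | some i => hc₀ i
  have hg : CohDer.Generates E := fun K hK => hg₀ K fun i n f => hK (some i) n f
  refine ⟨{t : (total E).T // CohDer.IsCompactObject ((total E).obj t)}, fun t => (total E).obj t.1,
    fun t => t.2, fun X hX => ?_⟩
  obtain ⟨t, ⟨e⟩⟩ : (total E).P X :=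
    (ObjectProperty.triangEnvelope_le_iff _).2 (fun Y ⟨i, h⟩ => h ▸ prop_gen E i) _
      (compact_mem_envelope E hc hg X hX)
  exact ⟨⟨t, Groth.Agent.Lib.DerCat.Compact.isCompactObject_of_iso e hX⟩, ⟨e⟩⟩

end Groth.Agent.Lib.FinDimBrown.Small
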