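import Groth.Agent.Lib.FinDimBrown.Colim

/-!
# Representing a finite-dimensional cohomological functor on compact objects
-/

universe w v u

set_option linter.unusedSectionVars false

open CategoryTheory CategoryTheory.Limits CategoryTheory.Pretriangulated Opposite ZeroObject

namespace Groth.Agent.Lib.FinDimBrown

variable {k : Type w} [Field k] {D : Type u} [Category.{v} D] [Preadditive D]
  [HasCoproducts.{v} D] [Linear k D] [HasZeroObject D] [HasShift D ℤ]
  [∀ n : ℤ, (shiftFunctor D n).Additive] [Pretriangulated D] (S : Datum k D)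

namespace Datum

lemma G_hom_ext {X : D} {M : Type*} [AddCommGroup M] [Module k M] (f g : S.G X →ₗ[k] M)
    (h : ∀ (A : D) (hA : CohDer.IsCompactObject A) (φ : A ⟶ X) (a : S.val hA →ₗ[k] S.K1),
      f (S.cl hA φ a) = g (S.cl hA φ a)) : f = g := LinearMap.ext fun x => by
  obtain ⟨A, hA, φ, a, rfl⟩ := S.exists_rep_cl x
  exact h A hA φ a

lemma Gmap_id (X : D) : S.Gmap (𝟙 X) = LinearMap.id :=
  S.G_hom_ext _ _ fun A hA φ a => by simp [Gmap_cl]

lemma Gmap_comp {X Y Z : D} (f : X ⟶ Y) (g : Y ⟶ Z) :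
    S.Gmap (f ≫ g) = (S.Gmap g).comp (S.Gmap f) :=
  S.G_hom_ext _ _ fun A hA φ a => by simp [Gmap_cl]

lemma Gmap_add {X Y : D} (f g : X ⟶ Y) : S.Gmap (f + g) = S.Gmap f + S.Gmap g :=
  S.G_hom_ext _ _ fun A hA φ a => by simp [Gmap_cl, cl_add]

lemma Gmap_smul {X Y : D} (r : k) (f : X ⟶ Y) : S.Gmap (r • f) = r • S.Gmap f :=
  S.G_hom_ext _ _ fun A hA φ a => by simp [Gmap_cl, cl_smul]

/-- The hypothesis that `H` is cohomological. -/
def Exact : Prop := ∀ T : Triangle D, T ∈ distTriang D → ∀ (h₁ : CohDer.IsCompactObject T.obj₁)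
  (h₂ : CohDer.IsCompactObject T.obj₂) (h₃ : CohDer.IsCompactObject T.obj₃) (y : S.val h₂),
    S.h h₁ h₂ T.mor₁ y = 0 → ∃ z, S.h h₂ h₃ T.mor₂ z = y

lemma extend {M N : Type v} [AddCommGroup M] [Module k M] [AddCommGroup N] [Module k N]
    (p : M →ₗ[k] N) (a : M →ₗ[k] S.K1) (h : LinearMap.ker p ≤ LinearMap.ker a) :
    ∃ b : N →ₗ[k] S.K1, b.comp p = a := by
  obtain ⟨b, hb⟩ := LinearMap.exists_extend
    (((LinearMap.ker p).liftQ a h).comp p.quotKerEquivRange.symm.toLinearMap)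
  refine ⟨b, LinearMap.ext fun x => ?_⟩
  have := LinearMap.congr_fun hb (⟨p x, x, rfl⟩ : LinearMap.range p)
  simpa [LinearMap.quotKerEquivRange_symm_apply_image] using this

lemma Gmap_exact (hex : S.Exact) (T : Triangle D) (hT : T ∈ distTriang D) (x : S.G T.obj₂)
    (hx : S.Gmap T.mor₂ x = 0) : ∃ y, S.Gmap T.mor₁ y = x := by
  obtain ⟨A, hA, φ, a, rfl⟩ := S.exists_rep_cl x
  rw [Gmap_cl] at hx
  obtain ⟨B, hB, u, ψ, hu, hau⟩ := S.cl_eq_zero hA _ a hx
  obtain ⟨Q, q, d, hQ⟩ := distinguished_cocone_triangle₁ u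
  have hQc : CohDer.IsCompactObject Q :=
    Groth.Agent.Lib.DerCat.Compact.isCompactObject_ext₂ _ (inv_rot_of_distTriang _ hQ)
      (Groth.Agent.Lib.DerCat.Compact.isCompactObject_shift hB (-1)) hA
  have h0 : (q ≫ φ) ≫ T.mor₂ = 0 := by
    have : q ≫ u = 0 := comp_distTriang_mor_zero₁₂ _ hQ
    rw [Category.assoc, ← hu, reassoc_of% this, zero_comp]
  obtain ⟨χ, hχ⟩ := Triangle.coyoneda_exact₂ _ hT _ h0
  obtain ⟨b, hb⟩ := S.extend (S.h hQc hA q) a fun y hy => by
    obtain ⟨z, rfl⟩ := hex _ hQ hQc hA hB y hy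
    exact LinearMap.congr_fun hau z
  refine ⟨S.cl hQc χ b, ?_⟩
  rw [Gmap_cl, ← hχ, S.cl_natural hQc hA, hb]

/-- The dual functor. -/
noncomputable def dd : Dᵒᵖ ⥤ AddCommGrpCat.{v} where
  obj X := AddCommGrpCat.of (S.G X.unop →ₗ[k] S.K1)
  map f := AddCommGrpCat.ofHom (LinearMap.lcomp k S.K1 (S.Gmap f.unop)).toAddMonoidHom
  map_id X := by
    ext a : 2
    exact (congrArg a.comp (S.Gmap_id X.unop)).trans (LinearMap.comp_id _)
  map_comp f g := by
    ext a : 2
    exact (congrArg a.comp (S.Gmap_comp g.unop f.unop)).trans (LinearMap.comp_assoc _ _ _).symm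

lemma dd_pb {W W' : D} (f : W ⟶ W') (ψ : S.G W' →ₗ[k] S.K1) :
    Groth.Agent.Lib.DerCat.Brown.pb S.dd f ψ = ψ.comp (S.Gmap f) := rfl

lemma dd_cohom (hex : S.Exact) : Groth.Agent.Lib.DerCat.Brown.Cohom S.dd where
  additive := ⟨fun {X Y f g} => by
    ext a : 2
    exact (congrArg a.comp (S.Gmap_add f.unop g.unop)).trans (LinearMap.comp_add _ _ _)⟩
  exact T hT ψ hψ := by
    obtain ⟨b, hb⟩ := S.extend (S.Gmap T.mor₂) ψ fun x hx => by
      obtain ⟨y, rfl⟩ := S.Gmap_exact hex T hT x hx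
      exact LinearMap.congr_fun hψ y
    exact ⟨b, hb⟩
  prod {κ} K x₀ := by
    classical
    let x : ∀ i, S.G (K i) →ₗ[k] S.K1 := x₀
    have hker : ∀ {A : D} (hA : CohDer.IsCompactObject A) (i : κ) (g : A ⟶ K i)
        (a : S.val hA →ₗ[k] S.K1),
        S.Gmap (Sigma.ι K i) (S.cl hA g a) = S.cl hA (g ≫ Sigma.ι K i) a := fun hA i g a =>
      S.Gmap_cl _ hA g a
    let L : ∀ {A : D} (hA : CohDer.IsCompactObject A),
        (DirectSum κ fun i => A ⟶ K i) →+ ((S.val hA →ₗ[k] S.K1) →+ S.K1) := fun hA =>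
      DirectSum.toAddMonoid fun i =>
        AddMonoidHom.mk' (fun g => ((x i).comp (S.cl hA g)).toAddMonoidHom) fun g g' => by
          ext a
          simp [cl_add]
    let P : ∀ {A : D} (hA : CohDer.IsCompactObject A),
        (A ⟶ ∐ K) →+ ((S.val hA →ₗ[k] S.K1) →+ S.K1) := fun hA =>
      (L hA).comp (AddEquiv.ofBijective _ (hA κ K)).symm.toAddMonoidHom
    have P_ι : ∀ {A : D} (hA : CohDer.IsCompactObject A) (i : κ) (g : A ⟶ K i)
        (a : S.val hA →ₗ[k] S.K1), P hA (g ≫ Sigma.ι K i) a = x i (S.cl hA g a) := fun {A} hA i g a => by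
      have : (AddEquiv.ofBijective _ (hA κ K)).symm (g ≫ Sigma.ι K i) =
          DirectSum.of (fun i => A ⟶ K i) i g :=
        (AddEquiv.ofBijective _ (hA κ K)).symm_apply_eq.2
          (Groth.Agent.Lib.DerCat.Compact.homSum_of K i g).symm
      simp [P, L, this]
    have ind : ∀ {A : D} (hA : CohDer.IsCompactObject A) (p : (A ⟶ ∐ K) → Prop),
        p 0 → (∀ f g, p f → p g → p (f + g)) → (∀ i (g : A ⟶ K i), p (g ≫ Sigma.ι K i)) →
          ∀ f, p f := fun {A} hA p h0 hadd hi f => by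
      obtain ⟨z, rfl⟩ := (hA κ K).2 f
      induction z using DirectSum.induction_on with
      | zero => rwa [map_zero]
      | of i g => rw [Groth.Agent.Lib.DerCat.Compact.homSum_of]; exact hi i g
      | add z z' hz hz' => rw [map_add]; exact hadd _ _ hz hz'
    have P_nat : ∀ {A B : D} (hA : CohDer.IsCompactObject A) (hB : CohDer.IsCompactObject B)
        (u : A ⟶ B) (φ : B ⟶ ∐ K) (a : S.val hA →ₗ[k] S.K1),
        P hA (u ≫ φ) a = P hB φ (a.comp (S.h hA hB u)) := fun {A B} hA hB u φ a => by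
      refine ind hB (fun φ => P hA (u ≫ φ) a = P hB φ (a.comp (S.h hA hB u))) ?_ ?_ ?_ φ
      · simp
      · intro f g hf hg; simp [hf, hg]
      · intro i g
        rw [← Category.assoc, P_ι, P_ι, S.cl_natural hA hB]
    have P_smul : ∀ {A : D} (hA : CohDer.IsCompactObject A) (r : k) (φ : A ⟶ ∐ K)
        (a : S.val hA →ₗ[k] S.K1), P hA φ (r • a) = r • P hA φ a := fun {A} hA r φ a => by
      refine ind hA (fun φ => P hA φ (r • a) = r • P hA φ a) ?_ ?_ ?_ φ
      · simp
      · intro f g hf hg; simp [hf, hg, smul_add]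
      · intro i g
        rw [P_ι, P_ι, map_smul, map_smul]
    let cc : Cocone (CostructuredArrow.proj S.inc (∐ K) ⋙ S.dual) :=
      { pt := ModuleCat.of k S.K1
        ι :=
          { app := fun j => ModuleCat.ofHom
              { toFun := fun a => P (S.compact j.left) j.hom a
                map_add' := fun a b => map_add _ a b
                map_smul' := fun r a => P_smul _ r _ a }
            naturality := fun i j u => by
              ext a
              exact ((congrArg (fun φ => P (S.compact i.left) φ a) (CostructuredArrow.w u).symm).trans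
                (P_nat _ _ _ _ a)).symm } }
    let ψ : S.G (∐ K) →ₗ[k] S.K1 := (colimit.desc _ cc).hom
    have hψ : ∀ {A : D} (hA : CohDer.IsCompactObject A) (φ : A ⟶ ∐ K)
        (a : S.val hA →ₗ[k] S.K1), ψ (S.cl hA φ a) = P hA φ a := fun {A} hA φ a => by
      obtain ⟨t, ⟨e⟩⟩ := S.exists_iso A hA
      rw [show φ = e.hom ≫ e.inv ≫ φ by simp, S.cl_natural hA (S.compact t), cl_obj,
        P_nat hA (S.compact t)]
      exact ConcreteCategory.congr_hom (colimit.ι_desc cc (S.mkJ t (e.inv ≫ φ))) _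
    refine ⟨ψ, fun i => S.G_hom_ext _ _ fun A hA g a => ?_, fun ψ₀ h' => ?_⟩
    · exact ((congrArg ψ (hker hA i g a)).trans (hψ hA _ a)).trans (P_ι hA i g a)
    · let ψ' : S.G (∐ K) →ₗ[k] S.K1 := ψ₀
      refine S.G_hom_ext ψ' ψ fun A hA φ a => ?_
      rw [hψ]
      refine ind hA (fun φ => ψ' (S.cl hA φ a) = P hA φ a) ?_ ?_ ?_ φ
      · have := S.cl_smul hA (0 : k) (0 : A ⟶ ∐ K) a
        rw [zero_smul, zero_smul] at this
        simp [this]
      · intro f g hf hg; simp [cl_add, hf, hg]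
      · intro i g
        rw [P_ι, ← hker hA]
        exact LinearMap.congr_fun (h' i) (S.cl hA g a)

/-- The cocone of evaluation maps. -/
noncomputable def evCocone {A : D} (hA : CohDer.IsCompactObject A) :
    Cocone (CostructuredArrow.proj S.inc A ⋙ S.dual) where
        pt := ModuleCat.of k (S.val hA →ₗ[k] S.K1)
        ι :=
          { app := fun j => ModuleCat.ofHom (LinearMap.lcomp k S.K1 (S.h (S.compact j.left) hA j.hom))
            naturality := fun i j u => by
              ext a : 2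
              have := congrArg (S.h (S.compact i.left) hA) (CostructuredArrow.w u)
              rw [S.h_comp (S.compact i.left) (S.compact j.left) hA] at this
              exact (LinearMap.comp_assoc _ _ _).trans (congrArg a.comp this) }

/-- The biduality map. -/
noncomputable def θ {A : D} (hA : CohDer.IsCompactObject A) : S.val hA →ₗ[k] (S.G A →ₗ[k] S.K1) :=
  LinearMap.flip (colimit.desc _ (S.evCocone hA)).hom

lemma θ_cl {A B : D} (hA : CohDer.IsCompactObject A) (hB : CohDer.IsCompactObject B) (φ : B ⟶ A)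
    (a : S.val hB →ₗ[k] S.K1) (x : S.val hA) :
    S.θ hA x (S.cl hB φ a) = a (S.h hB hA φ x) := by
  obtain ⟨t, ⟨e⟩⟩ := S.exists_iso B hB
  rw [show φ = e.hom ≫ e.inv ≫ φ by simp, S.cl_natural hB (S.compact t), cl_obj,
    S.h_comp hB (S.compact t) hA]
  exact LinearMap.congr_fun (ConcreteCategory.congr_hom
    (colimit.ι_desc (S.evCocone hA) (S.mkJ t (e.inv ≫ φ))) (a.comp (S.h hB (S.compact t) e.hom))) x

lemma θ_bijective {A : D} (hA : CohDer.IsCompactObject A) [Module.Finite k (S.val hA)] :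
    Function.Bijective (S.θ hA) := by
  constructor
  · rw [← LinearMap.ker_eq_bot, LinearMap.ker_eq_bot']
    intro x hx
    refine (Module.forall_dual_apply_eq_zero_iff k x).1 fun l => ?_
    have := LinearMap.congr_fun hx (S.cl hA (𝟙 A) (S.e1.symm.toLinearMap.comp l))
    rw [θ_cl, S.h_id] at this
    simpa using this
  · intro ψ
    let Φ : Module.Dual k (Module.Dual k (S.val hA)) :=
      S.e1.toLinearMap.comp ((ψ.comp (S.cl hA (𝟙 A))).comp
        (LinearMap.compRight k S.e1.symm.toLinearMap))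
    obtain ⟨x, hx⟩ := (Module.bijective_dual_eval k (S.val hA)).2 Φ
    refine ⟨x, S.G_hom_ext _ _ fun B hB φ a => ?_⟩
    rw [θ_cl]
    have h1 : S.cl hB φ a = S.cl hA (𝟙 A) (a.comp (S.h hB hA φ)) := by
      rw [← S.cl_natural hB hA, Category.comp_id]
    have h2 := LinearMap.congr_fun hx (S.e1.toLinearMap.comp (a.comp (S.h hB hA φ)))
    simp [Φ, ← LinearMap.comp_assoc] at h2
    rw [h1]
    exact h2

/-- The representing object. -/
theorem exists_iso_natural [IsTriangulated D] (hD : CohDer.IsCompactlyGenerated D) (hex : S.Exact)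
    (hfin : ∀ {A : D} (hA : CohDer.IsCompactObject A), Module.Finite k (S.val hA)) :
    ∃ (Y : D), ∃ e : ∀ {A : D} (hA : CohDer.IsCompactObject A), S.val hA ≃ₗ[k] (A ⟶ Y),
      ∀ {A B : D} (hA : CohDer.IsCompactObject A) (hB : CohDer.IsCompactObject B) (f : A ⟶ B)
        (x : S.val hB), e hA (S.h hA hB f x) = f ≫ e hB x := by
  haveI := Small.hasColimitsOfShape_nat.{v} (D := D)
  obtain ⟨ι, E, hc, hg⟩ := hD
  obtain ⟨Y, π, hπ⟩ := Groth.Agent.Lib.DerCat.Brown.exists_representing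
    (Groth.Agent.Lib.DerCat.BrownGen.perfGen_of_compact E hc hg) (S.dd_cohom hex)
  let R : ∀ A : D, (A ⟶ Y) →ₗ[k] (S.G A →ₗ[k] S.K1) := fun A =>
    { toFun := fun f => (show S.G Y →ₗ[k] S.K1 from π).comp (S.Gmap f)
      map_add' := fun f g => by rw [Gmap_add, LinearMap.comp_add]
      map_smul' := fun r f => by rw [Gmap_smul, LinearMap.comp_smul]; rfl }
  let e : ∀ {A : D} (hA : CohDer.IsCompactObject A), S.val hA ≃ₗ[k] (A ⟶ Y) := fun {A} hA =>
    haveI := hfin hA
    (LinearEquiv.ofBijective _ (S.θ_bijective hA)).trans (LinearEquiv.ofBijective (R A) (hπ A)).symm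
  refine ⟨Y, fun hA => e hA, fun {A B} hA hB f x => ?_⟩
  have hR : ∀ {A : D} (hA : CohDer.IsCompactObject A) (x : S.val hA),
      (show S.G Y →ₗ[k] S.K1 from π).comp (S.Gmap (e hA x)) = S.θ hA x := fun {A} hA x =>
    (LinearEquiv.ofBijective (R A) (hπ A)).apply_symm_apply _
  refine (hπ A).1 (?_ : (show S.G Y →ₗ[k] S.K1 from π).comp (S.Gmap _) =
    (show S.G Y →ₗ[k] S.K1 from π).comp (S.Gmap _))
  simp only [Quiver.Hom.unop_op]
  rw [Gmap_comp, hR hA, ← LinearMap.comp_assoc, hR hB]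
  refine S.G_hom_ext _ _ fun C hC φ a => ?_
  rw [LinearMap.comp_apply, Gmap_cl, θ_cl, θ_cl, S.h_comp hC hA hB]
  rfl

end Datum

end Groth.Agent.Lib.FinDimBrown
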