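import Groth.Agent.Lib.FinDimBrown.Small
import Mathlib.Algebra.Category.ModuleCat.Colimits
import Mathlib.Algebra.Category.ModuleCat.FilteredColimits
import Mathlib.Algebra.Category.Grp.FilteredColimits
import Mathlib.CategoryTheory.Comma.StructuredArrow.Basic
import Mathlib.CategoryTheory.Filtered.Basic
import Mathlib.LinearAlgebra.Dual.Lemmas

/-!
# The homological extension of a functor on compact objects

Given a small family `obj` containing every compact object up to isomorphism and a `k`-linear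
cohomological functor `H` on compact objects, `G X` is the filtered colimit of `H(C)^*` over the
maps `C ⟶ X`, and its dual is a cohomological functor turning coproducts into products.
-/

universe w v u

set_option linter.unusedSectionVars false

open CategoryTheory CategoryTheory.Limits CategoryTheory.Pretriangulated Opposite ZeroObject

namespace Groth.Agent.Lib.FinDimBrown

/-- The compact objects. -/
abbrev Cpt (D : Type u) [Category.{v} D] [Preadditive D] [HasCoproducts.{v} D] : ObjectProperty D :=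
  fun K : D => CohDer.IsCompactObject K

variable {k : Type w} [Field k] {D : Type u} [Category.{v} D] [Preadditive D]
  [HasCoproducts.{v} D]

/-- The input. -/
structure Datum (k : Type w) [Field k] (D : Type u) [Category.{v} D] [Preadditive D] [Linear k D]
    [HasCoproducts.{v} D] where
  /-- The functor. -/
  H : (Cpt D).FullSubcategoryᵒᵖ ⥤ ModuleCat.{v} k
  additive : H.Additive
  linear : ∀ (X Y : (Cpt D).FullSubcategory) (r : k) (f : X ⟶ Y),
    H.map (r • f).op = r • H.map f.op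
  /-- The small family. -/
  T : Type v
  /-- Its objects. -/
  obj : T → D
  compact : ∀ t, CohDer.IsCompactObject (obj t)
  exists_iso : ∀ X : D, CohDer.IsCompactObject X → ∃ t, Nonempty (X ≅ obj t)
  /-- A `v`-small model of `k`. -/
  K1 : Type v
  [grp : AddCommGroup K1]
  [mod : Module k K1]
  /-- The identification with `k`. -/
  e1 : K1 ≃ₗ[k] k

attribute [instance] Datum.grp Datum.mod

variable [Linear k D] (S : Datum k D)

namespace Datum

instance : S.H.Additive := S.additive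

/-- `H` on a compact object. -/
abbrev val {A : D} (hA : CohDer.IsCompactObject A) : Type v :=
  (S.H.obj (op (⟨A, hA⟩ : (Cpt D).FullSubcategory)) : ModuleCat.{v} k)

/-- The action of `H`. -/
noncomputable def h {A B : D} (hA : CohDer.IsCompactObject A) (hB : CohDer.IsCompactObject B)
    (f : A ⟶ B) : S.val hB →ₗ[k] S.val hA :=
  (S.H.map (ObjectProperty.homMk f : (⟨A, hA⟩ : (Cpt D).FullSubcategory) ⟶ ⟨B, hB⟩).op).hom

lemma h_id {A : D} (hA : CohDer.IsCompactObject A) : S.h hA hA (𝟙 A) = LinearMap.id :=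
  congrArg ModuleCat.Hom.hom (S.H.map_id (op (⟨A, hA⟩ : (Cpt D).FullSubcategory)))

lemma h_comp {A B C : D} (hA : CohDer.IsCompactObject A) (hB : CohDer.IsCompactObject B)
    (hC : CohDer.IsCompactObject C) (f : A ⟶ B) (g : B ⟶ C) :
    S.h hA hC (f ≫ g) = (S.h hA hB f).comp (S.h hB hC g) :=
  congrArg ModuleCat.Hom.hom (S.H.map_comp
    (ObjectProperty.homMk g : (⟨B, hB⟩ : (Cpt D).FullSubcategory) ⟶ ⟨C, hC⟩).op
    (ObjectProperty.homMk f : (⟨A, hA⟩ : (Cpt D).FullSubcategory) ⟶ ⟨B, hB⟩).op)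

lemma h_add {A B : D} (hA : CohDer.IsCompactObject A) (hB : CohDer.IsCompactObject B)
    (f g : A ⟶ B) : S.h hA hB (f + g) = S.h hA hB f + S.h hA hB g :=
  congrArg ModuleCat.Hom.hom (S.H.map_add
    (f := (ObjectProperty.homMk f : (⟨A, hA⟩ : (Cpt D).FullSubcategory) ⟶ ⟨B, hB⟩).op)
    (g := (ObjectProperty.homMk g : (⟨A, hA⟩ : (Cpt D).FullSubcategory) ⟶ ⟨B, hB⟩).op))

lemma h_smul {A B : D} (hA : CohDer.IsCompactObject A) (hB : CohDer.IsCompactObject B)
    (r : k) (f : A ⟶ B) : S.h hA hB (r • f) = r • S.h hA hB f :=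
  congrArg ModuleCat.Hom.hom (S.linear ⟨A, hA⟩ ⟨B, hB⟩ r
    (ObjectProperty.homMk f : (⟨A, hA⟩ : (Cpt D).FullSubcategory) ⟶ ⟨B, hB⟩))

/-- The index category. -/
abbrev I : Type v := InducedCategory D S.obj

/-- The inclusion. -/
abbrev inc : S.I ⥤ D := inducedFunctor S.obj

/-- `t ↦ H(t)^*`. -/
noncomputable def dual : S.I ⥤ ModuleCat.{v} k where
  obj t := ModuleCat.of k (S.val (S.compact t) →ₗ[k] S.K1)
  map {s t} f := ModuleCat.ofHom (LinearMap.lcomp k S.K1 (S.h (S.compact s) (S.compact t) (S.inc.map f)))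
  map_id t := by
    ext a x
    simp [S.h_id]
  map_comp {r s t} f g := by
    ext a x
    simp [S.h_comp (S.compact r) (S.compact s) (S.compact t)]

/-- The comma category over an object. -/
abbrev J (X : D) : Type v := CostructuredArrow S.inc X

/-- An object of the comma category. -/
abbrev mkJ {X : D} (t : S.T) (φ : S.obj t ⟶ X) : S.J X :=
  CostructuredArrow.mk (C := S.I) (S := S.inc) (Y := t) φ

variable [HasZeroObject D] [HasShift D ℤ] [∀ n : ℤ, (shiftFunctor D n).Additive] [Pretriangulated D]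

/-- Lift a compact object to the comma category. -/
lemma exists_lift {X C : D} (hC : CohDer.IsCompactObject C) (φ : C ⟶ X) :
    ∃ (j : S.J X) (e : C ≅ S.inc.obj j.left), e.hom ≫ j.hom = φ := by
  obtain ⟨t, ⟨e⟩⟩ := S.exists_iso C hC
  exact ⟨S.mkJ t (e.inv ≫ φ), e, e.hom_inv_id_assoc φ⟩

instance isFiltered_J (X : D) : IsFiltered (S.J X) := by
  haveI : IsFilteredOrEmpty (S.J X) :=
    { cocone_objs := fun a b => by
        obtain ⟨j, e, he⟩ := S.exists_lift
          (Groth.Agent.Lib.DerCat.Compact.isCompactObject_ext₂ _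
            (binaryBiproductTriangle_distinguished _ _) (S.compact a.left) (S.compact b.left))
          (biprod.desc a.hom b.hom)
        exact ⟨j, CostructuredArrow.homMk (InducedCategory.homMk (biprod.inl ≫ e.hom))
            (((Category.assoc _ _ _).trans (congrArg (biprod.inl ≫ ·) he)).trans (biprod.inl_desc _ _)),
          CostructuredArrow.homMk (InducedCategory.homMk (biprod.inr ≫ e.hom))
            (((Category.assoc _ _ _).trans (congrArg (biprod.inr ≫ ·) he)).trans (biprod.inr_desc _ _)), trivial⟩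
      cocone_maps := fun a b f g => by
        obtain ⟨Q, q, d, hQ⟩ := distinguished_cocone_triangle (S.inc.map f.left - S.inc.map g.left)
        have h0 : (S.inc.map f.left - S.inc.map g.left) ≫ b.hom = 0 := by
          rw [Preadditive.sub_comp]; exact sub_eq_zero.2 ((CostructuredArrow.w f).trans (CostructuredArrow.w g).symm)
        obtain ⟨ψ, hψ⟩ : ∃ ψ : Q ⟶ X, b.hom = q ≫ ψ := Triangle.yoneda_exact₂ _ hQ b.hom h0
        obtain ⟨j, e, he⟩ := S.exists_lift
          (Groth.Agent.Lib.DerCat.Compact.isCompactObject_ext₂ _ (rot_of_distTriang _ hQ)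
            (S.compact b.left) (Groth.Agent.Lib.DerCat.Compact.isCompactObject_shift (S.compact a.left) 1))
          ψ
        refine ⟨j, CostructuredArrow.homMk (InducedCategory.homMk (q ≫ e.hom))
          (((Category.assoc _ _ _).trans (congrArg (q ≫ ·) he)).trans hψ.symm), ?_⟩
        apply CostructuredArrow.hom_ext
        apply InducedCategory.hom_ext
        dsimp
        have : (S.inc.map f.left - S.inc.map g.left) ≫ q = 0 := comp_distTriang_mor_zero₁₂ _ hQ
        rw [Preadditive.sub_comp, sub_eq_zero] at this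
        exact ((Category.assoc _ _ _).symm.trans (congrArg (· ≫ e.hom) this)).trans
          (Category.assoc _ _ _) }
  obtain ⟨j, -, -⟩ := S.exists_lift
    (Groth.Agent.Lib.DerCat.Compact.isCompactObject_of_isZero (h := isZero_zero D)) (0 : (0 : D) ⟶ X)
  exact { nonempty := ⟨j⟩ }

/-- The colimit. -/
noncomputable def G (X : D) : ModuleCat.{v} k := colimit (CostructuredArrow.proj S.inc X ⋙ S.dual)

/-- The colimit injections. -/
noncomputable def inj {X : D} (t : S.T) (φ : S.obj t ⟶ X) :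
    (S.val (S.compact t) →ₗ[k] S.K1) →ₗ[k] S.G X :=
  (colimit.ι (CostructuredArrow.proj S.inc X ⋙ S.dual) (S.mkJ t φ)).hom

lemma inj_comp {X : D} {s t : S.T} (u : S.obj s ⟶ S.obj t) (φ : S.obj t ⟶ X)
    (a : S.val (S.compact s) →ₗ[k] S.K1) :
    S.inj s (u ≫ φ) a = S.inj t φ (a.comp (S.h (S.compact s) (S.compact t) u)) :=
  (ConcreteCategory.congr_hom (colimit.w (CostructuredArrow.proj S.inc X ⋙ S.dual)
    (CostructuredArrow.homMk (InducedCategory.homMk u) rfl :
      S.mkJ s (u ≫ φ) ⟶ S.mkJ t φ)) a).symm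

lemma preserves_forget (X : D) :
    PreservesColimit (CostructuredArrow.proj S.inc X ⋙ S.dual) (forget (ModuleCat.{v} k)) := by
  haveI : PreservesColimit (CostructuredArrow.proj S.inc X ⋙ S.dual)
      (forget₂ (ModuleCat.{v} k) AddCommGrpCat.{v}) := inferInstance
  haveI : PreservesColimit ((CostructuredArrow.proj S.inc X ⋙ S.dual) ⋙
      forget₂ (ModuleCat.{v} k) AddCommGrpCat.{v}) (forget AddCommGrpCat.{v}) := inferInstance
  exact inferInstanceAs (PreservesColimit (CostructuredArrow.proj S.inc X ⋙ S.dual)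
    (forget₂ (ModuleCat.{v} k) AddCommGrpCat.{v} ⋙ forget AddCommGrpCat.{v}))

lemma exists_rep {X : D} (x : S.G X) : ∃ t φ a, S.inj t φ a = x := by
  haveI := S.preserves_forget X
  obtain ⟨j, a, h⟩ := Concrete.colimit_exists_rep (CostructuredArrow.proj S.inc X ⋙ S.dual) x
  exact ⟨j.left, j.hom, a, h⟩

/-- The map of colimits. -/
noncomputable def Gmap {X Y : D} (f : X ⟶ Y) : S.G X →ₗ[k] S.G Y :=
  (colimit.pre (CostructuredArrow.proj S.inc Y ⋙ S.dual) (CostructuredArrow.map f) :
    S.G X ⟶ S.G Y).hom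

lemma Gmap_inj {X Y : D} (f : X ⟶ Y) (t : S.T) (φ : S.obj t ⟶ X)
    (a : S.val (S.compact t) →ₗ[k] S.K1) : S.Gmap f (S.inj t φ a) = S.inj t (φ ≫ f) a :=
  ConcreteCategory.congr_hom (colimit.ι_pre (CostructuredArrow.proj S.inc Y ⋙ S.dual)
    (CostructuredArrow.map f) (S.mkJ t φ)) a

lemma inj_h {X A : D} (hA : CohDer.IsCompactObject A) {t : S.T} (e : A ≅ S.obj t) (φ : A ⟶ X) :
    ∀ (s : S.T) (u : S.obj s ⟶ A) (a : S.val (S.compact s) →ₗ[k] S.K1),
      S.inj s (u ≫ φ) a =
        S.inj t (e.inv ≫ φ) ((a.comp (S.h (S.compact s) hA u)).comp (S.h hA (S.compact t) e.hom)) := by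
  intro s u a
  have : u ≫ φ = (u ≫ e.hom) ≫ e.inv ≫ φ := by simp
  rw [this, inj_comp, S.h_comp _ hA _, LinearMap.comp_assoc]

/-- The class of `a` on a map `φ` from any compact object. -/
noncomputable def cl {X A : D} (hA : CohDer.IsCompactObject A) (φ : A ⟶ X) :
    (S.val hA →ₗ[k] S.K1) →ₗ[k] S.G X :=
  (S.inj (S.exists_iso A hA).choose ((S.exists_iso A hA).choose_spec.some.inv ≫ φ)).comp
    (LinearMap.lcomp k S.K1 (S.h hA (S.compact _) (S.exists_iso A hA).choose_spec.some.hom))

lemma cl_comp {X A : D} (hA : CohDer.IsCompactObject A) (φ : A ⟶ X) (s : S.T) (u : S.obj s ⟶ A)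
    (a : S.val (S.compact s) →ₗ[k] S.K1) :
    S.inj s (u ≫ φ) a = S.cl hA φ (a.comp (S.h (S.compact s) hA u)) :=
  S.inj_h hA _ φ s u a

lemma cl_natural {X A B : D} (hA : CohDer.IsCompactObject A) (hB : CohDer.IsCompactObject B)
    (u : A ⟶ B) (φ : B ⟶ X) (a : S.val hA →ₗ[k] S.K1) :
    S.cl hA (u ≫ φ) a = S.cl hB φ (a.comp (S.h hA hB u)) := by
  have h := (S.exists_iso A hA).choose_spec.some
  change S.inj _ (_ ≫ u ≫ φ) _ = _
  rw [← Category.assoc, S.cl_comp hB]
  simp only [LinearMap.lcomp_apply']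
  rw [LinearMap.comp_assoc, ← S.h_comp hA _ hB, Iso.hom_inv_id_assoc]

lemma cl_obj {X : D} (t : S.T) (φ : S.obj t ⟶ X) (a : S.val (S.compact t) →ₗ[k] S.K1) :
    S.cl (S.compact t) φ a = S.inj t φ a := by
  have := S.cl_comp (S.compact t) φ t (𝟙 _) a
  rwa [Category.id_comp, S.h_id, LinearMap.comp_id, eq_comm] at this

lemma Gmap_cl {X Y A : D} (f : X ⟶ Y) (hA : CohDer.IsCompactObject A) (φ : A ⟶ X)
    (a : S.val hA →ₗ[k] S.K1) : S.Gmap f (S.cl hA φ a) = S.cl hA (φ ≫ f) a := by
  change S.Gmap f (S.inj _ _ _) = S.inj _ (_ ≫ φ ≫ f) _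
  rw [Gmap_inj, Category.assoc]

lemma cl_add {X A : D} (hA : CohDer.IsCompactObject A) (φ ψ : A ⟶ X) (a : S.val hA →ₗ[k] S.K1) :
    S.cl hA (φ + ψ) a = S.cl hA φ a + S.cl hA ψ a := by
  have hAA : CohDer.IsCompactObject (A ⊞ A) := Groth.Agent.Lib.DerCat.Compact.isCompactObject_ext₂ _
    (binaryBiproductTriangle_distinguished A A) hA hA
  have h1 : φ + ψ = (biprod.inl + biprod.inr) ≫ biprod.desc φ ψ := by simp
  rw [h1, S.cl_natural hA hAA, S.h_add, LinearMap.comp_add, map_add, ← S.cl_natural hA hAA,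
    ← S.cl_natural hA hAA, biprod.inl_desc, biprod.inr_desc]

lemma cl_smul {X A : D} (hA : CohDer.IsCompactObject A) (r : k) (φ : A ⟶ X)
    (a : S.val hA →ₗ[k] S.K1) : S.cl hA (r • φ) a = r • S.cl hA φ a := by
  have h1 : r • φ = (r • 𝟙 A) ≫ φ := by simp
  rw [h1, S.cl_natural hA hA, S.h_smul, S.h_id, LinearMap.comp_smul, LinearMap.comp_id, map_smul]

lemma exists_rep_cl {X : D} (x : S.G X) :
    ∃ (A : D) (hA : CohDer.IsCompactObject A) (φ : A ⟶ X) (a : S.val hA →ₗ[k] S.K1),
      S.cl hA φ a = x := by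
  obtain ⟨t, φ, a, h⟩ := S.exists_rep x
  exact ⟨_, S.compact t, φ, a, (S.cl_obj t φ a).trans h⟩

lemma cl_eq_zero {X A : D} (hA : CohDer.IsCompactObject A) (φ : A ⟶ X) (a : S.val hA →ₗ[k] S.K1)
    (h : S.cl hA φ a = 0) :
    ∃ (B : D) (hB : CohDer.IsCompactObject B) (u : A ⟶ B) (ψ : B ⟶ X),
      u ≫ ψ = φ ∧ a.comp (S.h hA hB u) = 0 := by
  haveI := S.preserves_forget X
  obtain ⟨j, u, v, huv⟩ := (Concrete.colimit_rep_eq_iff_exists
    (CostructuredArrow.proj S.inc X ⋙ S.dual)
    (i := S.mkJ (S.exists_iso A hA).choose ((S.exists_iso A hA).choose_spec.some.inv ≫ φ))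
    (j := S.mkJ (S.exists_iso A hA).choose ((S.exists_iso A hA).choose_spec.some.inv ≫ φ))
    (a.comp (S.h hA (S.compact _) (S.exists_iso A hA).choose_spec.some.hom)) 0).1
    (h.trans (map_zero _).symm)
  refine ⟨S.obj j.left, S.compact _, (S.exists_iso A hA).choose_spec.some.hom ≫ u.left.hom, j.hom,
    ?_, ?_⟩
  · rw [Category.assoc]
    exact ((congrArg (_ ≫ ·) (CostructuredArrow.w u)).trans (Iso.hom_inv_id_assoc _ _))
  · rw [S.h_comp hA (S.compact _) (S.compact _), ← LinearMap.comp_assoc]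
    exact huv.trans (map_zero _)

end Datum

end Groth.Agent.Lib.FinDimBrown
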